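import Groth.Agent.BlowSep.Main
import Groth.Agent.BlowUpExist.Global
import Groth.Agent.ConsSet.Basic

/-!
# Separating disjoint closed subsets of an open by an admissible blow-up
-/

set_option autoImplicit false

universe u

open CategoryTheory CategoryTheory.Limits AlgebraicGeometry TopologicalSpace Topology

namespace Groth.Agent.BlowSep

variable {X X' : Scheme.{u}}

/-- A finite type ideal cutting out a closed constructible subset of a quasi-compact open, within that open. -/
theorem exists_ideal_inter [CompactSpace X] [QuasiSeparatedSpace X] (U : X.Opens) (hU : IsCompact (U : Set X))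
    (T : Set U) (hT : IsClosed T) (hc : IsConstructible T) :
    ∃ I : X.IdealSheafData, BlowUp.IsFiniteTypeIdeal I ∧ ∀ x : U, (x.1 ∈ I.support ↔ x ∈ T) := by
  haveI : CompactSpace U.toScheme := isCompact_iff_compactSpace.1 hU
  have hcpt : IsCompact (Tᶜ : Set U.toScheme) :=
    (ConsSet.isRetrocompact hc.compl).isCompact
  let O : X.Opens := ⟨Subtype.val '' (Tᶜ : Set U), U.2.isOpenMap_subtype_val _ hT.isOpen_compl⟩
  obtain ⟨I, -, -, -, -, -, -, hIfg, hIsupp⟩ := QC.exists_ftIdeal O (hcpt.image continuous_subtype_val)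
  refine ⟨I, hIfg, fun x => ?_⟩
  rw [← SetLike.mem_coe, hIsupp]
  exact ⟨fun h => by_contra fun hx => h ⟨x, hx, rfl⟩, fun h ⟨y, hy, hxy⟩ => hy (Subtype.ext hxy ▸ h)⟩

/-- After blowing up `A ⊔ B`, the closures of the parts of the zero loci off the centre are disjoint. -/
theorem disjoint_closure {c : X' ⟶ X} (A B : X.IdealSheafData) (hcart : BlowUp.IsEffCartierIdeal ((A ⊔ B).comap c)) :
    Disjoint (closure ((fun x => c x) ⁻¹' ((A.support : Set X) \ (A ⊔ B).support)))
      (closure ((fun x => c x) ⁻¹' ((B.support : Set X) \ (A ⊔ B).support))) := by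
  refine Set.disjoint_left.2 fun z hzA hzB => ?_
  obtain ⟨U, hU, hzU, -⟩ := exists_isAffineOpen_mem_and_subset (X := X) (U := ⊤) (trivial : c z ∈ (⊤ : X.Opens))
  obtain ⟨O, hzO, hOU, ε, hεreg, hε⟩ := BlowUpLib.exists_small_generator hcart (show z ∈ c ⁻¹ᵁ U from hzU)
  have hgen := hε
  rw [Scheme.IdealSheafData.comap_sup, Scheme.IdealSheafData.ideal_sup, Pi.sup_apply] at hε
  -- the cofactors vanish on the closures
  have key : ∀ (I : X.IdealSheafData), z ∈ closure ((fun x => c x) ⁻¹' ((I.support : Set X) \ (A ⊔ B).support)) →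
      ∀ a : Γ(X', O.1), ε * a ∈ (I.comap c).ideal O → z ∉ X'.basicOpen a := fun I hI a ha hza => by
    obtain ⟨y, hya, hyI, hyE⟩ := mem_closure_iff.1 hI _ (X'.basicOpen a).2 hza
    have hyO : y ∈ O.1 := X'.basicOpen_le a hya
    have h1 : y ∈ (I.comap c).support := by rw [Scheme.IdealSheafData.support_comap]; exact hyI
    rw [Scheme.IdealSheafData.mem_support_iff_of_mem (U := O) hyO, Scheme.mem_zeroLocus_iff] at h1
    have h2 : y ∉ ((A ⊔ B).comap c).support := by rw [Scheme.IdealSheafData.support_comap]; exact hyE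
    rw [Scheme.IdealSheafData.mem_support_iff_of_mem (U := O) hyO, hgen, Scheme.zeroLocus_span,
      Scheme.zeroLocus_singleton] at h2
    exact h1 _ ha (by rw [Scheme.basicOpen_mul]; exact ⟨not_not.1 h2, hya⟩)
  obtain ⟨a, ha, b, hb, hab⟩ := Submodule.mem_sup.1 (hε ▸ Ideal.mem_span_singleton_self ε)
  obtain ⟨a', rfl⟩ := Ideal.mem_span_singleton.1 (hε ▸ Submodule.mem_sup_left ha)
  obtain ⟨b', rfl⟩ := Ideal.mem_span_singleton.1 (hε ▸ Submodule.mem_sup_right hb)
  have h1 : a' + b' = 1 := by
    rw [← mul_cancel_left_mem_nonZeroDivisors hεreg, mul_add, hab, mul_one]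
  have h2 : z ∈ X'.basicOpen (a' + b') := by
    rw [h1, X'.basicOpen_of_isUnit isUnit_one]; exact hzO
  rcases Scheme.basicOpen_add_le (X := X') a' b' h2 with h | h
  · exact key A hzA a' ha h
  · exact key B hzB b' hb h

end Groth.Agent.BlowSep
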