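import Groth.Agent.BlowSep.Main
import Mathlib

/-!
# Empty intersection of closures after admissible blow-ups
-/

set_option autoImplicit false

universe u

open CategoryTheory CategoryTheory.Limits AlgebraicGeometry TopologicalSpace

namespace Groth.Agent.BlowSep

variable {X Y S T : Scheme.{u}}

/-- An inclusion of zero loci on a quasi-compact scheme gives an inclusion of a power. -/
theorem exists_pow_comap_le [CompactSpace Y] (q : Y ⟶ X) (J : X.IdealSheafData) (hJ : BlowUp.IsFiniteTypeIdeal J)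
    (A : Y.IdealSheafData) (h : ∀ y ∈ A.support, q y ∈ J.support) :
    ∃ n : ℕ, ∀ N, n ≤ N → (J ^ N).comap q ≤ A := by
  have hp : ∀ y : Y, ∃ (U : X.affineOpens) (D : Y.affineOpens) (e : D.1 ≤ q ⁻¹ᵁ U.1) (n : ℕ), y ∈ D.1 ∧
      (J.ideal U).map (q.appLE U.1 D.1 e).hom ^ n ≤ A.ideal D := fun y => by
    obtain ⟨U, hU, hwU, -⟩ := exists_isAffineOpen_mem_and_subset (X := X) (U := ⊤) (trivial : q y ∈ (⊤ : X.Opens))
    obtain ⟨D, hD, hwD, e⟩ := exists_isAffineOpen_mem_and_subset (X := Y) (U := q ⁻¹ᵁ U) (show y ∈ q ⁻¹ᵁ U from hwU)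
    have hrad : (J.ideal ⟨U, hU⟩).map (q.appLE U D e).hom ≤ (A.ideal ⟨D, hD⟩).radical := by
      rw [← PrimeSpectrum.zeroLocus_subset_zeroLocus_iff]
      intro p hp
      have hyD : hD.fromSpec p ∈ D := hD.range_fromSpec.subset ⟨p, rfl⟩
      have key : ∀ b : Γ(Y, D), (hD.fromSpec p ∈ Y.basicOpen b ↔ b ∉ p.asIdeal) := fun b => by
        rw [← hD.fromSpec_image_basicOpen, Scheme.Hom.apply_mem_image_iff]
        rfl
      have hA : hD.fromSpec p ∈ A.support := by
        rw [Scheme.IdealSheafData.mem_support_iff_of_mem (U := ⟨D, hD⟩) hyD, Scheme.mem_zeroLocus_iff]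
        exact fun b hb hb' => (key b).1 hb' (hp hb)
      have hJ' : hD.fromSpec p ∈ (J.comap q).support := by
        rw [Scheme.IdealSheafData.support_comap]; exact h _ hA
      rw [Scheme.IdealSheafData.mem_support_iff_of_mem (U := ⟨D, hD⟩) hyD,
        FpqcDescent.ideal_comap_appLE J q ⟨U, hU⟩ ⟨D, hD⟩ e, Scheme.mem_zeroLocus_iff] at hJ'
      exact fun b hb => not_not.1 fun hb' => hJ' b hb ((key b).2 hb')
    obtain ⟨n, hn⟩ := Ideal.exists_pow_le_of_le_radical_of_fg hrad ((hJ ⟨U, hU⟩).map _)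
    exact ⟨⟨U, hU⟩, ⟨D, hD⟩, e, n, hwD, hn⟩
  choose U D e n hmem hle using hp
  obtain ⟨t, ht⟩ := isCompact_univ.elim_finite_subcover (fun y : Y => ((D y).1 : Set Y)) (fun y => (D y).1.2)
    (fun y _ => Set.mem_iUnion.2 ⟨y, hmem y⟩)
  refine ⟨t.sup n, fun N hN => Scheme.IdealSheafData.le_of_iSup_eq_top (fun i : t => D i.1)
    (eq_top_iff.2 fun y _ => ?_) fun i => ?_⟩
  · obtain ⟨i, hi, hyi⟩ := Set.mem_iUnion₂.1 (ht (Set.mem_univ y))
    exact Opens.mem_iSup.2 ⟨⟨i, hi⟩, hyi⟩
  · rw [FpqcDescent.ideal_comap_appLE _ q (U i) (D i) (e i), Scheme.IdealSheafData.ideal_pow, Pi.pow_apply,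
      Ideal.map_pow]
    exact (Ideal.pow_le_pow_right ((Finset.le_sup i.2).trans hN)).trans (hle i)

/-- The base of a finite wide pullback of quasi-compact morphisms is quasi-compact. -/
theorem quasiCompact_base : ∀ {m : ℕ} (Z : Fin m → Scheme.{u}) (g : ∀ i, Z i ⟶ S) [∀ i, QuasiCompact (g i)],
    QuasiCompact (WidePullback.base g) := by
  intro m
  induction m with
  | zero =>
    intro Z g _
    have : IsIso (WidePullback.base g) :=
      ⟨WidePullback.lift (𝟙 S) (fun i => i.elim0) (fun i => i.elim0),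
        WidePullback.hom_ext g _ _ (fun i => i.elim0)
          (by rw [Category.assoc]; erw [WidePullback.lift_base]; rw [Category.comp_id, Category.id_comp]),
        by erw [WidePullback.lift_base]⟩
    infer_instance
  | succ m ih =>
    intro Z g _
    haveI := ih (fun j => Z j.succ) (fun j => g j.succ)
    let e : widePullback S Z g ⟶ pullback (g 0) (WidePullback.base (fun j : Fin m => g j.succ)) :=
      pullback.lift (WidePullback.π g 0)
        (WidePullback.lift (WidePullback.base g) (fun j => WidePullback.π g j.succ) (fun j => WidePullback.π_arrow g j.succ))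
        (by erw [WidePullback.π_arrow, WidePullback.lift_base])
    let e' : pullback (g 0) (WidePullback.base (fun j : Fin m => g j.succ)) ⟶ widePullback S Z g :=
      WidePullback.lift (pullback.fst _ _ ≫ g 0)
        (Fin.cases (pullback.fst _ _) (fun j => pullback.snd _ _ ≫ WidePullback.π (fun j : Fin m => g j.succ) j))
        (fun j => by
          refine Fin.cases ?_ ?_ j
          · simp
          · intro i
            simp only [Fin.cases_succ, Category.assoc]
            rw [WidePullback.π_arrow (fun j : Fin m => g j.succ) i, pullback.condition])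
    have he1 : e ≫ pullback.fst _ _ = WidePullback.π g 0 := pullback.lift_fst _ _ _
    have he2 : ∀ j, e ≫ pullback.snd _ _ ≫ WidePullback.π (fun j : Fin m => g j.succ) j = WidePullback.π g j.succ :=
      fun j => by rw [← Category.assoc]; erw [pullback.lift_snd, WidePullback.lift_π]
    have he3 : e ≫ pullback.snd _ _ ≫ WidePullback.base (fun j : Fin m => g j.succ) = WidePullback.base g := by
      rw [← Category.assoc]; erw [pullback.lift_snd, WidePullback.lift_base]
    have he4 : e' ≫ WidePullback.base g = pullback.fst _ _ ≫ g 0 := WidePullback.lift_base _ _ _ _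
    have he5 : e' ≫ WidePullback.π g 0 = pullback.fst _ _ := WidePullback.lift_π _ _ _ _ 0
    have he6 : ∀ j : Fin m, e' ≫ WidePullback.π g j.succ = pullback.snd _ _ ≫ WidePullback.π (fun j : Fin m => g j.succ) j :=
      fun j => WidePullback.lift_π _ _ _ _ j.succ
    have : IsIso e := ⟨e', WidePullback.hom_ext g _ _ (fun j => by
        refine Fin.cases ?_ ?_ j
        · rw [Category.assoc, he5, he1, Category.id_comp]
        · intro i; rw [Category.assoc, he6, he2, Category.id_comp]) (by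
          rw [Category.assoc, he4, ← Category.assoc, he1, WidePullback.π_arrow, Category.id_comp]), by
      apply pullback.hom_ext
      · rw [Category.assoc, he1, he5, Category.id_comp]
      · refine WidePullback.hom_ext (fun j : Fin m => g j.succ) _ _ (fun j => ?_) ?_
        · simp only [Category.assoc]; rw [he2, he6, Category.id_comp]
        · simp only [Category.assoc]; rw [he3, he4, Category.id_comp, pullback.condition]⟩
    rw [← he3]
    infer_instance

/-- A system `εᵢ = ∑ εⱼ sᵢⱼ + rᵢ` with small cofactors forces `εᵢ` to vanish along the zeros of the `rᵢ`. -/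
theorem false_of_system {ι : Type*} [Finite ι] (i₀ : ι) {P : Scheme.{u}} {O : P.Opens}
    (ε : ι → Γ(P, O)) (s : ι → ι → Γ(P, O)) (r : ι → Γ(P, O)) (he : ∀ i, ε i = ∑ᶠ j, ε j * s i j + r i)
    {C : Set P} (z : P) (hz : z ∈ closure C) (hzO : z ∈ O) (hs : ∀ i j, z ∉ P.basicOpen (s i j))
    (hr : ∀ i, ∀ u ∈ C, u ∉ P.basicOpen (r i)) (hε : ∀ u ∈ C, u ∈ O → u ∈ P.basicOpen (ε i₀)) : False := by
  classical
  haveI := Fintype.ofFinite ι
  let N : Matrix ι ι Γ(P, O) := 1 - Matrix.of s
  have hN : z ∈ P.basicOpen N.det := by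
    rw [← P.evaluation_ne_zero_iff_mem_basicOpen _ hzO]
    have h1 : (P.evaluation O z hzO).hom.mapMatrix N = 1 := by
      ext i j
      simp only [N, RingHom.mapMatrix_apply, Matrix.map_apply, Matrix.sub_apply, Matrix.of_apply, map_sub]
      rw [(P.evaluation_eq_zero_iff_notMem_basicOpen _ hzO (s i j)).2 (hs i j), sub_zero, Matrix.one_apply,
        Matrix.one_apply]
      split <;> simp
    rw [show P.evaluation O z hzO N.det = (P.evaluation O z hzO).hom N.det from rfl, RingHom.map_det, h1,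
      Matrix.det_one]
    exact one_ne_zero
  obtain ⟨u, hu, huC⟩ := mem_closure_iff.1 hz _ (P.basicOpen N.det).2 hN
  have huO : u ∈ O := P.basicOpen_le _ hu
  let φ := (P.evaluation O u huO).hom
  have hdet : (φ.mapMatrix N).det ≠ 0 := by
    rw [← RingHom.map_det]
    exact (P.evaluation_ne_zero_iff_mem_basicOpen _ huO _).2 hu
  refine (P.evaluation_ne_zero_iff_mem_basicOpen _ huO (ε i₀)).2 (hε u huC huO) (congr_fun
    (Matrix.eq_zero_of_mulVec_eq_zero hdet (v := fun j => φ (ε j)) (funext fun i => ?_)) i₀)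
  have hri : φ (r i) = 0 := (P.evaluation_eq_zero_iff_notMem_basicOpen _ huO _).2 (hr i u huC)
  have := congrArg φ (he i)
  rw [finsum_eq_sum_of_fintype, map_add, hri, add_zero, map_sum] at this
  simp only [N, map_sub, map_one, Matrix.sub_mulVec, Matrix.one_mulVec, Pi.sub_apply, Pi.zero_apply, sub_eq_zero]
  rw [this]
  exact Finset.sum_congr rfl fun j _ => by
    simp only [RingHom.mapMatrix_apply, Matrix.map_apply, Matrix.of_apply, map_mul, mul_comm]

/-- Where the comparison maps are proper, a point of the closure has all projections in the opens or none. -/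
theorem mem_range_of_closure {m : ℕ} {X₀ U : Scheme.{u}} (gX : X₀ ⟶ S) {Xi Xb : Fin m → Scheme.{u}}
    (gb : ∀ i, Xb i ⟶ S) [∀ i, IsSeparated (gb i)] (o : ∀ i, Xi i ⟶ Xb i) [∀ i, IsOpenImmersion (o i)]
    (q : ∀ i, Xi i ⟶ X₀) [∀ i, IsProper (q i)] (hq : ∀ i, q i ≫ gX = o i ≫ gb i)
    (jU : U ⟶ X₀) (v : ∀ i, U ⟶ Xi i) (hv : ∀ i, v i ≫ q i = jU) (w : ∀ i, (v i ≫ o i) ≫ gb i = jU ≫ gX)
    {z : ↥(widePullback S Xb gb)}
    (hz : z ∈ closure (Set.range (fun x => (WidePullback.lift (jU ≫ gX) (fun i => v i ≫ o i) w) x)))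
    (i j : Fin m) (hi : (WidePullback.π gb i) z ∈ (o i).opensRange) :
    (WidePullback.π gb j) z ∈ (o j).opensRange := by
  let O : (widePullback S Xb gb).Opens := WidePullback.π gb i ⁻¹ᵁ (o i).opensRange
  let p : O.toScheme ⟶ Xi i := IsOpenImmersion.lift (o i) (O.ι ≫ WidePullback.π gb i) (by
    rintro _ ⟨t, rfl⟩
    rw [Scheme.Hom.comp_apply]
    exact t.2)
  have hp : p ≫ o i = O.ι ≫ WidePullback.π gb i := IsOpenImmersion.lift_fac _ _ _
  let h : O.toScheme ⟶ pullback (o i ≫ gb i) (gb j) := pullback.lift p (O.ι ≫ WidePullback.π gb j) (by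
    rw [← Category.assoc, hp, Category.assoc, Category.assoc, WidePullback.π_arrow, WidePullback.π_arrow])
  let g : pullback (q i) (q j) ⟶ pullback (o i ≫ gb i) (gb j) :=
    pullback.lift (pullback.fst _ _) (pullback.snd _ _ ≫ o j) (by
      rw [← hq i, Category.assoc, ← hq j, ← Category.assoc, ← Category.assoc, pullback.condition])
  haveI : IsProper (g ≫ pullback.fst _ _) := by simp only [g, pullback.lift_fst]; infer_instance
  haveI : IsProper g := IsProper.of_comp g (pullback.fst _ _)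
  have hclosed : IsClosed (Set.range (fun t => g t)) := g.isClosedMap.isClosed_range
  let zO : O.toScheme := ⟨z, hi⟩
  have hmem : h zO ∈ Set.range (fun t => g t) := by
    refine hclosed.closure_subset (closure_mono ?_ (image_closure_subset_closure_image h.continuous
      ⟨zO, (O.ι.isOpenEmbedding.isOpenMap.preimage_closure_eq_closure_preimage O.ι.continuous _).subset
        (show O.ι zO ∈ closure _ from hz), rfl⟩))
    rintro _ ⟨t, ⟨x, hx⟩, rfl⟩
    let l := WidePullback.lift (jU ≫ gX) (fun i => v i ≫ o i) w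
    let l' : U ⟶ O.toScheme := IsOpenImmersion.lift O.ι l (by
      rintro _ ⟨y, rfl⟩
      rw [Scheme.Opens.range_ι]
      show WidePullback.π gb i (l y) ∈ (o i).opensRange
      rw [← Scheme.Hom.comp_apply, WidePullback.lift_π, Scheme.Hom.comp_apply]
      exact ⟨v i y, rfl⟩)
    have hl : l' ≫ O.ι = l := IsOpenImmersion.lift_fac _ _ _
    have htx : l' x = t := O.ι.isOpenEmbedding.injective (by rw [← Scheme.Hom.comp_apply, hl]; exact hx)
    refine ⟨(pullback.lift (v i) (v j) (by rw [hv, hv])) x, ?_⟩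
    show g _ = h t
    rw [← htx, ← Scheme.Hom.comp_apply, ← Scheme.Hom.comp_apply]
    have heq : pullback.lift (v i) (v j) (by rw [hv, hv]) ≫ g = l' ≫ h := ?_
    · rw [heq]
    apply pullback.hom_ext
    · simp only [g, h, Category.assoc, pullback.lift_fst]
      rw [← cancel_mono (o i), Category.assoc, hp, ← Category.assoc, hl, WidePullback.lift_π]
    · simp only [g, h, Category.assoc, pullback.lift_snd, pullback.lift_snd_assoc]
      rw [← Category.assoc, hl, WidePullback.lift_π]
  obtain ⟨t, ht⟩ := hmem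
  have := congrArg (fun y => pullback.snd (o i ≫ gb i) (gb j) y) ht
  simp only [← Scheme.Hom.comp_apply] at this
  rw [pullback.lift_snd, pullback.lift_snd, Scheme.Hom.comp_apply, Scheme.Hom.comp_apply] at this
  exact ⟨_, this⟩

/-- The core: the closures of the strict preimages have no common point in the closure. -/
theorem empty_core {m : ℕ} (i₀ : Fin m) {P P' : Scheme.{u}} {Xb Xb' : Fin m → Scheme.{u}}
    (π : ∀ i, P ⟶ Xb i) (π' : ∀ i, P' ⟶ Xb' i) (c : ∀ i, Xb' i ⟶ Xb i) (τ : P' ⟶ P)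
    (hτ : ∀ i, τ ≫ π i = π' i ≫ c i)
    (A E : ∀ i, (Xb i).IdealSheafData) (hcart : ∀ i, BlowUp.IsEffCartierIdeal ((E i).comap (c i)))
    (hAE : ∀ i, A i ≤ E i) (C : Closeds P) (C' : Set P')
    (hEK : ∀ i, (E i).comap (π i) ≤ (⨆ j, (A j).comap (π j)) ⊔ Scheme.IdealSheafData.vanishingIdeal C)
    (hC : ∀ u ∈ C', τ u ∈ (C : Set P)) (hC' : ∀ u ∈ C', ∀ i, c i (π' i u) ∉ (E i).support)
    (z : P') (hz : z ∈ closure C')
    (hzA : ∀ i, π' i z ∈ closure ((fun y => c i y) ⁻¹' ((A i).support \ (E i).support : Set (Xb i)))) : False := by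
  have hch : ∀ i, ∃ (W : (Xb i).affineOpens) (O : (Xb' i).affineOpens) (_ : O.1 ≤ c i ⁻¹ᵁ W.1) (ε : Γ(Xb' i, O.1)),
      π' i z ∈ O.1 ∧ ((E i).comap (c i)).ideal O = Ideal.span {ε} := fun i => by
    obtain ⟨W, hW, hzW, -⟩ := exists_isAffineOpen_mem_and_subset (X := Xb i) (U := ⊤)
      (trivial : c i (π' i z) ∈ (⊤ : (Xb i).Opens))
    obtain ⟨O, hzO, hOW, ε, -, hε⟩ := BlowUpLib.exists_small_generator (hcart i) (show π' i z ∈ c i ⁻¹ᵁ W from hzW)
    exact ⟨⟨W, hW⟩, O, hOW, ε, hzO, hε⟩
  choose W O hOW ε hzO hε using hch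
  obtain ⟨T, hT, hzT, hTle⟩ := exists_isAffineOpen_mem_and_subset (X := P')
    (U := ⟨⋂ i, (fun y => π' i y) ⁻¹' ((O i).1 : Set (Xb' i)),
      isOpen_iInter_of_finite fun i => (O i).1.2.preimage (π' i).continuous⟩)
    (show z ∈ _ from Set.mem_iInter.2 hzO)
  have eT : ∀ i, T ≤ π' i ⁻¹ᵁ (O i).1 := fun i u hu => Set.mem_iInter.1 (hTle hu) i
  let ε' : Fin m → Γ(P', T) := fun i => ((π' i).appLE (O i).1 T (eT i)).hom (ε i)
  -- pulled back inclusion
  have hmem : ∀ i, ε' i ∈ ((⨆ j, (A j).comap (π' j ≫ c j)) ⊔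
      Scheme.IdealSheafData.vanishingIdeal ⟨closure C', isClosed_closure⟩).ideal ⟨T, hT⟩ := fun i => by
    refine (show (E i).comap (π' i ≫ c i) ≤ _ from ?_) ⟨T, hT⟩ ?_
    · rw [← hτ i, Scheme.IdealSheafData.comap_comp]
      refine le_trans (Scheme.IdealSheafData.comap_mono τ (hEK i)) ?_
      dsimp only
      rw [Scheme.IdealSheafData.comap_sup, (Scheme.IdealSheafData.map_gc τ).l_iSup]
      refine sup_le_sup (le_of_eq (iSup_congr fun j => ?_)) ?_
      · rw [← Scheme.IdealSheafData.comap_comp, hτ j]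
      · rw [← Scheme.IdealSheafData.le_support_iff_le_vanishingIdeal, ← SetLike.coe_subset_coe,
          Scheme.IdealSheafData.support_comap]
        refine closure_minimal (fun u hu => ?_) (IsClosed.preimage τ.continuous (Closeds.isClosed _))
        show τ u ∈ ((Scheme.IdealSheafData.vanishingIdeal C).support : Set P)
        rw [Scheme.IdealSheafData.coe_support_vanishingIdeal]
        exact hC u hu
    · rw [Scheme.IdealSheafData.comap_comp, FpqcDescent.ideal_comap_appLE _ (π' i) (O i) ⟨T, hT⟩ (eT i), hε i,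
        Ideal.map_span, Set.image_singleton]
      exact Ideal.mem_span_singleton_self _
  -- factor each ideal through the generator
  have hA : ∀ j, ((A j).comap (π' j ≫ c j)).ideal ⟨T, hT⟩ ≤
      Ideal.span {ε' j} * Ideal.span {x | z ∉ P'.basicOpen x} := fun j => by
    rw [Scheme.IdealSheafData.comap_comp, FpqcDescent.ideal_comap_appLE _ (π' j) (O j) ⟨T, hT⟩ (eT j),
      Ideal.map_le_iff_le_comap]
    intro a ha
    obtain ⟨a', rfl⟩ := Ideal.mem_span_singleton.1 (hε j ▸ Scheme.IdealSheafData.comap_mono (c j) (hAE j) (O j) ha)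
    rw [Ideal.mem_comap, map_mul]
    refine Ideal.mul_mem_mul (Ideal.mem_span_singleton_self _) (Ideal.subset_span fun hza => ?_)
    rw [Scheme.Hom.appLE, CommRingCat.comp_apply, Scheme.basicOpen_res, ← Scheme.Hom.preimage_basicOpen] at hza
    obtain ⟨y, hya, hyA, hyE⟩ := mem_closure_iff.1 (hzA j) _ ((Xb' j).basicOpen a').2 hza.2
    have hyO : y ∈ (O j).1 := (Xb' j).basicOpen_le a' hya
    have h1 : y ∈ ((A j).comap (c j)).support := by rw [Scheme.IdealSheafData.support_comap]; exact hyA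
    rw [Scheme.IdealSheafData.mem_support_iff_of_mem (U := O j) hyO, Scheme.mem_zeroLocus_iff] at h1
    have h2 : y ∉ ((E j).comap (c j)).support := by rw [Scheme.IdealSheafData.support_comap]; exact hyE
    rw [Scheme.IdealSheafData.mem_support_iff_of_mem (U := O j) hyO, hε j, Scheme.zeroLocus_span,
      Scheme.zeroLocus_singleton] at h2
    exact h1 _ ha (by rw [Scheme.basicOpen_mul]; exact ⟨not_not.1 h2, hya⟩)
  have hsys : ∀ i, ∃ (s : Fin m → Γ(P', T)) (r : Γ(P', T)), ε' i = ∑ᶠ j, ε' j * s j + r ∧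
      (∀ j, z ∉ P'.basicOpen (s j)) ∧ ∀ u ∈ C', u ∉ P'.basicOpen r := fun i => by
    have h := hmem i
    rw [Scheme.IdealSheafData.ideal_sup, Pi.sup_apply, Scheme.IdealSheafData.ideal_iSup, iSup_apply] at h
    obtain ⟨a, ha, r, hr, har⟩ := Submodule.mem_sup.1 h
    replace ha := (Submodule.mem_iSup_finset_iff_exists_sum (s := (Finset.univ : Finset (Fin m)))
      (p := fun j => ((A j).comap (π' j ≫ c j)).ideal ⟨T, hT⟩) a).1 (by simpa using ha)
    obtain ⟨f, hf⟩ := ha
    have : ∀ j, ∃ s, z ∉ P'.basicOpen s ∧ (f j : Γ(P', T)) = ε' j * s := fun j => by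
      obtain ⟨s, hs, hfs⟩ := Ideal.mem_span_singleton_mul.1 (hA j (f j).2)
      refine ⟨s, fun hzs => ?_, hfs.symm⟩
      have h1 : z ∈ P'.zeroLocus (U := T) {x : Γ(P', T) | z ∉ P'.basicOpen x} :=
        (Scheme.mem_zeroLocus_iff _ _ _).2 fun x hx => hx
      rw [← Scheme.zeroLocus_span] at h1
      exact (Scheme.mem_zeroLocus_iff _ _ _).1 h1 s hs hzs
    choose s hs hfs using this
    refine ⟨s, r, ?_, hs, fun u hu hur => ?_⟩
    · rw [finsum_eq_sum_of_fintype, ← Finset.sum_congr rfl (fun j _ => hfs j), hf, har]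
    · have h1 : u ∈ (Scheme.IdealSheafData.vanishingIdeal (⟨closure C', isClosed_closure⟩ : Closeds P')).support := by
        rw [← SetLike.mem_coe, Scheme.IdealSheafData.coe_support_vanishingIdeal]
        exact subset_closure hu
      rw [Scheme.IdealSheafData.mem_support_iff_of_mem (U := ⟨T, hT⟩) (P'.basicOpen_le r hur),
        Scheme.mem_zeroLocus_iff] at h1
      exact h1 r hr hur
  choose s r he hs hr using hsys
  refine false_of_system i₀ ε' s r he z hz hzT hs hr fun u hu huT => ?_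
  have h2 : π' i₀ u ∉ ((E i₀).comap (c i₀)).support := by
    rw [Scheme.IdealSheafData.support_comap]; exact hC' u hu i₀
  rw [Scheme.IdealSheafData.mem_support_iff_of_mem (U := O i₀) (eT i₀ huT), hε i₀, Scheme.zeroLocus_span,
    Scheme.zeroLocus_singleton] at h2
  show u ∈ P'.basicOpen (((π' i₀).appLE (O i₀).1 T (eT i₀)).hom (ε i₀))
  rw [Scheme.Hom.appLE, CommRingCat.comp_apply, Scheme.basicOpen_res, ← Scheme.Hom.preimage_basicOpen]
  exact ⟨huT, not_not.1 h2⟩

end Groth.Agent.BlowSep
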