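import Groth.Prelude.Def_BlowUp2
import Groth.Agent.BlowUpLib.Cartier
import Groth.Agent.QC.FTIdeal
import Mathlib

/-!
# Separating closures by an admissible blow-up
-/

set_option autoImplicit false

universe u

open CategoryTheory CategoryTheory.Limits AlgebraicGeometry TopologicalSpace

namespace Groth.Agent.BlowSep

variable {X X' Y P : Scheme.{u}}

/-- An inclusion of zero loci over a quasi-compact open gives an inclusion of a power there. -/
theorem exists_pow_le {q : Y ⟶ X} (A J : X.IdealSheafData) (hJ : BlowUp.IsFiniteTypeIdeal J) {W : Y.Opens}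
    (hW : IsCompact (W : Set Y)) (h : ∀ w ∈ W, q w ∈ A.support → q w ∈ J.support) :
    ∃ n : ℕ, ∀ w ∈ W, ∃ (U : X.affineOpens) (D : Y.affineOpens) (e : D.1 ≤ q ⁻¹ᵁ U.1), w ∈ D.1 ∧
      ((J ^ n).ideal U).map (q.appLE U.1 D.1 e).hom ≤ (A.ideal U).map (q.appLE U.1 D.1 e).hom := by
  have hp : ∀ w : W, ∃ (U : X.affineOpens) (D : Y.affineOpens) (e : D.1 ≤ q ⁻¹ᵁ U.1) (n : ℕ), (w : Y) ∈ D.1 ∧
      (J.ideal U).map (q.appLE U.1 D.1 e).hom ^ n ≤ (A.ideal U).map (q.appLE U.1 D.1 e).hom := fun w => by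
    obtain ⟨U, hU, hwU, -⟩ := exists_isAffineOpen_mem_and_subset (X := X) (U := ⊤) (trivial : q w.1 ∈ (⊤ : X.Opens))
    obtain ⟨D, hD, hwD, hDle⟩ := exists_isAffineOpen_mem_and_subset (X := Y) (U := W ⊓ q ⁻¹ᵁ U)
      (show w.1 ∈ W ⊓ q ⁻¹ᵁ U from ⟨w.2, hwU⟩)
    have e : D ≤ q ⁻¹ᵁ U := fun y hy => (hDle hy).2
    have hrad : (J.ideal ⟨U, hU⟩).map (q.appLE U D e).hom ≤ ((A.ideal ⟨U, hU⟩).map (q.appLE U D e).hom).radical := by
      rw [← PrimeSpectrum.zeroLocus_subset_zeroLocus_iff]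
      intro p hp
      have hyD : hD.fromSpec p ∈ D := hD.range_fromSpec.subset ⟨p, rfl⟩
      have key : ∀ b : Γ(Y, D), (hD.fromSpec p ∈ Y.basicOpen b ↔ b ∉ p.asIdeal) := fun b => by
        rw [← hD.fromSpec_image_basicOpen, Scheme.Hom.apply_mem_image_iff]
        rfl
      have hA : hD.fromSpec p ∈ (A.comap q).support := by
        rw [Scheme.IdealSheafData.mem_support_iff_of_mem (U := ⟨D, hD⟩) hyD,
          FpqcDescent.ideal_comap_appLE A q ⟨U, hU⟩ ⟨D, hD⟩ e, Scheme.mem_zeroLocus_iff]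
        exact fun b hb => fun hb' => (key b).1 hb' (hp hb)
      rw [Scheme.IdealSheafData.support_comap] at hA
      have hJ' : hD.fromSpec p ∈ (J.comap q).support := by
        rw [Scheme.IdealSheafData.support_comap]
        exact h _ (hDle hyD).1 hA
      rw [Scheme.IdealSheafData.mem_support_iff_of_mem (U := ⟨D, hD⟩) hyD,
        FpqcDescent.ideal_comap_appLE J q ⟨U, hU⟩ ⟨D, hD⟩ e, Scheme.mem_zeroLocus_iff] at hJ'
      exact fun b hb => not_not.1 fun hb' => hJ' b hb ((key b).2 hb')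
    obtain ⟨n, hn⟩ := Ideal.exists_pow_le_of_le_radical_of_fg hrad ((hJ ⟨U, hU⟩).map _)
    exact ⟨⟨U, hU⟩, ⟨D, hD⟩, e, n, hwD, hn⟩
  choose U D e n hmem hle using hp
  obtain ⟨t, ht⟩ := hW.elim_finite_subcover (fun w : W => ((D w).1 : Set Y)) (fun w => (D w).1.2)
    (fun w hw => Set.mem_iUnion.2 ⟨⟨w, hw⟩, hmem ⟨w, hw⟩⟩)
  refine ⟨t.sup n, fun w hw => ?_⟩
  obtain ⟨i, hi, hwi⟩ := Set.mem_iUnion₂.1 (ht hw)
  refine ⟨U i, D i, e i, hwi, ?_⟩
  rw [Scheme.IdealSheafData.ideal_pow, Pi.pow_apply, Ideal.map_pow]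
  exact (Ideal.pow_le_pow_right (Finset.le_sup hi)).trans (hle i)

/-- Over a point of `W`, the strict transform of the zero locus of `A` misses the closure of an open over `V`. -/
theorem separated {q : Y ⟶ X} {c : X' ⟶ X} {f : P ⟶ Y} {g : P ⟶ X'} (hfg : f ≫ q = g ≫ c)
    (A E : X.IdealSheafData) (V : Set X) (hV : ∀ x ∈ V, x ∉ E.support)
    (hcart : BlowUp.IsEffCartierIdeal (E.comap c)) (hAE : A ≤ E)
    (S : Set P) (hS : ∀ u ∈ S, q (f u) ∈ V) (z : P) (hz : z ∈ closure S)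
    (hz' : g z ∈ closure ((fun x => c x) ⁻¹' ((A.support : Set X) ∩ V)))
    (U : X.affineOpens) (D : Y.affineOpens) (e : D.1 ≤ q ⁻¹ᵁ U.1) (hzD : f z ∈ D.1)
    (hle : (E.ideal U).map (q.appLE U.1 D.1 e).hom ≤ (A.ideal U).map (q.appLE U.1 D.1 e).hom) : False := by
  have hgU : g z ∈ c ⁻¹ᵁ U.1 := by
    show c (g z) ∈ U.1
    rw [← Scheme.Hom.comp_apply, ← hfg, Scheme.Hom.comp_apply]
    exact e hzD
  obtain ⟨O, hzO, hOU, ε, -, hε⟩ := BlowUpLib.exists_small_generator hcart hgU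
  obtain ⟨T, hT, hzT, hTle⟩ := exists_isAffineOpen_mem_and_subset (X := P) (U := f ⁻¹ᵁ D.1 ⊓ g ⁻¹ᵁ O.1)
    (show z ∈ f ⁻¹ᵁ D.1 ⊓ g ⁻¹ᵁ O.1 from ⟨hzD, hzO⟩)
  have ef : T ≤ f ⁻¹ᵁ D.1 := fun u hu => (hTle hu).1
  have eg : T ≤ g ⁻¹ᵁ O.1 := fun u hu => (hTle hu).2
  have hcomm : q.appLE U.1 D.1 e ≫ f.appLE D.1 T ef = c.appLE U.1 O.1 hOU ≫ g.appLE O.1 T eg := by
    rw [Scheme.Hom.appLE_comp_appLE, Scheme.Hom.appLE_comp_appLE]
    congr 1
  rw [FpqcDescent.ideal_comap_appLE E c U O hOU] at hε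
  let AO : Ideal Γ(X', O.1) := (A.ideal U).map (c.appLE U.1 O.1 hOU).hom
  let A' : Ideal Γ(X', O.1) := Submodule.comap (LinearMap.mulLeft Γ(X', O.1) ε) AO
  have hAO : AO = Ideal.span {ε} * A' := by
    refine le_antisymm (fun a ha => ?_) (Ideal.mul_le.2 fun r hr s hs => ?_)
    · obtain ⟨a', rfl⟩ := Ideal.mem_span_singleton.1 (hε ▸ Ideal.map_mono (hAE U) ha)
      exact Ideal.mul_mem_mul (Ideal.mem_span_singleton_self ε) ha
    · obtain ⟨r', rfl⟩ := Ideal.mem_span_singleton.1 hr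
      rw [mul_comm ε r', mul_assoc]
      exact Ideal.mul_mem_left _ r' hs
  -- the generator lies in the image of `A`
  have hε' : (g.appLE O.1 T eg).hom ε ∈
      Ideal.span {(g.appLE O.1 T eg).hom ε} * A'.map (g.appLE O.1 T eg).hom := by
    rw [← Set.image_singleton, ← Ideal.map_span, ← Ideal.map_mul, ← hAO, Ideal.map_map,
      ← CommRingCat.hom_comp, ← hcomm, CommRingCat.hom_comp, ← Ideal.map_map]
    apply Ideal.map_mono hle
    rw [Ideal.map_map, ← CommRingCat.hom_comp, hcomm, CommRingCat.hom_comp, ← Ideal.map_map, hε]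
    exact Ideal.mem_map_of_mem _ (Ideal.mem_span_singleton_self ε)
  obtain ⟨s, hs, hεs⟩ := Ideal.mem_span_singleton_mul.1 hε'
  -- the cofactor vanishes at the point
  have hA'z : ∀ a ∈ A', g z ∉ X'.basicOpen a := fun a ha hza => by
    obtain ⟨y, hya, hyA, hyV⟩ := mem_closure_iff.1 hz' _ (X'.basicOpen a).2 hza
    have hyO : y ∈ O.1 := X'.basicOpen_le a hya
    have h1 : y ∈ (A.comap c).support := by rw [Scheme.IdealSheafData.support_comap]; exact hyA
    rw [Scheme.IdealSheafData.mem_support_iff_of_mem (U := O) hyO,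
      FpqcDescent.ideal_comap_appLE A c U O hOU, Scheme.mem_zeroLocus_iff] at h1
    have h2 : y ∉ (E.comap c).support := by
      rw [Scheme.IdealSheafData.support_comap]; exact hV _ hyV
    rw [Scheme.IdealSheafData.mem_support_iff_of_mem (U := O) hyO,
      FpqcDescent.ideal_comap_appLE E c U O hOU, hε, Scheme.zeroLocus_span, Scheme.zeroLocus_singleton] at h2
    exact h1 _ (show ε * a ∈ AO from ha) (by rw [Scheme.basicOpen_mul]; exact ⟨not_not.1 h2, hya⟩)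
  have hsz : z ∉ P.basicOpen s := by
    have h1 : z ∈ P.zeroLocus (U := T) ((g.appLE O.1 T eg).hom '' (A' : Set Γ(X', O.1))) := by
      rw [Scheme.mem_zeroLocus_iff]
      rintro _ ⟨a, ha, rfl⟩ hza
      rw [Scheme.Hom.appLE, CommRingCat.comp_apply, Scheme.basicOpen_res, ← Scheme.Hom.preimage_basicOpen] at hza
      exact hA'z a ha hza.2
    rw [← Scheme.zeroLocus_span] at h1
    exact (Scheme.mem_zeroLocus_iff _ _ _).1 h1 s hs
  have hz1 : z ∈ P.basicOpen (1 - s) := by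
    rw [Scheme.mem_basicOpen _ _ _ hzT, map_sub, map_one]
    apply IsLocalRing.isUnit_one_sub_self_of_mem_nonunits
    exact fun hu => hsz ((Scheme.mem_basicOpen _ _ _ hzT).2 hu)
  obtain ⟨u, hu, huS⟩ := mem_closure_iff.1 hz _ (P.basicOpen (1 - s)).2 hz1
  have huT : u ∈ T := P.basicOpen_le _ hu
  have h2 : g u ∉ (E.comap c).support := by
    rw [Scheme.IdealSheafData.support_comap]
    refine hV _ ?_
    rw [← Scheme.Hom.comp_apply, ← hfg, Scheme.Hom.comp_apply]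
    exact hS u huS
  rw [Scheme.IdealSheafData.mem_support_iff_of_mem (U := O) (eg huT),
    FpqcDescent.ideal_comap_appLE E c U O hOU, hε, Scheme.zeroLocus_span, Scheme.zeroLocus_singleton] at h2
  have h3 : u ∈ P.basicOpen ((g.appLE O.1 T eg).hom ε * (1 - s)) := by
    rw [Scheme.basicOpen_mul]
    refine ⟨?_, hu⟩
    rw [Scheme.Hom.appLE, CommRingCat.comp_apply, Scheme.basicOpen_res, ← Scheme.Hom.preimage_basicOpen]
    exact ⟨huT, not_not.1 h2⟩
  rw [mul_sub, mul_one, hεs, sub_self, Scheme.basicOpen_zero] at h3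
  exact h3

end Groth.Agent.BlowSep
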