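import Groth.Agent.BlowSep.Empty

/-!
# Strict transforms and closures near exceptional divisors
-/

set_option autoImplicit false

universe u

open CategoryTheory CategoryTheory.Limits AlgebraicGeometry TopologicalSpace

namespace Groth.Agent.BlowSep

variable {X X' Y Y' : Scheme.{u}}

/-- Basic opens of pulled back sections. -/
theorem mem_basicOpen_appLE {P : Scheme.{u}} (g : P ⟶ X) (U : X.Opens) (T : P.Opens) (e : T ≤ g ⁻¹ᵁ U)
    (a : Γ(X, U)) (z : P) : z ∈ P.basicOpen ((g.appLE U T e).hom a) ↔ z ∈ T ∧ g z ∈ X.basicOpen a := by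
  rw [Scheme.Hom.appLE, CommRingCat.comp_apply, Scheme.basicOpen_res, ← Scheme.Hom.preimage_basicOpen]
  rfl

/-- A point outside a pulled back zero locus lies in the basic open of the generator. -/
theorem mem_basicOpen_gen {E : X.IdealSheafData} {c : X' ⟶ X} {O : X'.affineOpens} {ε : Γ(X', O.1)}
    (hε : (E.comap c).ideal O = Ideal.span {ε}) {x : X'} (hx : x ∈ O.1) (h : c x ∉ E.support) :
    x ∈ X'.basicOpen ε := by
  have h2 : x ∉ (E.comap c).support := by rw [Scheme.IdealSheafData.support_comap]; exact h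
  rw [Scheme.IdealSheafData.mem_support_iff_of_mem (U := O) hx, hε, Scheme.zeroLocus_span,
    Scheme.zeroLocus_singleton] at h2
  exact not_not.1 h2

/-- A cofactor vanishes on the closure of the zero locus away from the centre. -/
theorem notMem_basicOpen_cofactor {A E : X.IdealSheafData} {c : X' ⟶ X} {O : X'.affineOpens} {ε : Γ(X', O.1)}
    (hε : (E.comap c).ideal O = Ideal.span {ε}) {x : X'}
    (hxA : x ∈ closure ((fun y => c y) ⁻¹' ((A.support : Set X) \ E.support)))
    {a : Γ(X', O.1)} (ha : ε * a ∈ (A.comap c).ideal O) : x ∉ X'.basicOpen a := fun hxa => by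
  obtain ⟨y, hya, hyA, hyE⟩ := mem_closure_iff.1 hxA _ (X'.basicOpen a).2 hxa
  have hyO : y ∈ O.1 := X'.basicOpen_le a hya
  have h1 : y ∈ (A.comap c).support := by rw [Scheme.IdealSheafData.support_comap]; exact hyA
  rw [Scheme.IdealSheafData.mem_support_iff_of_mem (U := O) hyO, Scheme.mem_zeroLocus_iff] at h1
  exact h1 _ ha (by rw [Scheme.basicOpen_mul]; exact ⟨mem_basicOpen_gen hε hyO hyE, hya⟩)

/-- Pulled back sections vanishing on the strict transform: the generator cancels. -/
theorem strict_cofactor {E J : X.IdealSheafData} {b : X' ⟶ X} {g : Y' ⟶ X} {k : Y' ⟶ X'} (hk : k ≫ b = g)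
    (hJ : J.comap g = ⊥) (hcart : BlowUp.IsEffCartierIdeal (E.comap g))
    {O : X'.affineOpens} {ε a : Γ(X', O.1)} (hε : (E.comap b).ideal O = Ideal.span {ε})
    (ha : ε * a ∈ (J.comap b).ideal O) (y : Y') (hy : k y ∈ O.1) : k y ∉ X'.basicOpen a := fun hya => by
  obtain ⟨T, hyT, hT, η, hη, he⟩ := BlowUpLib.exists_small_generator hcart (show y ∈ k ⁻¹ᵁ O.1 from hy)
  rw [← hk, Scheme.IdealSheafData.comap_comp, FpqcDescent.ideal_comap_appLE _ k O T hT, hε, Ideal.map_span,
    Set.image_singleton] at he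
  have h0 : (k.appLE O.1 T.1 hT).hom (ε * a) = 0 := by
    have : (k.appLE O.1 T.1 hT).hom (ε * a) ∈ (J.comap g).ideal T := by
      rw [← hk, Scheme.IdealSheafData.comap_comp, FpqcDescent.ideal_comap_appLE _ k O T hT]
      exact Ideal.mem_map_of_mem _ ha
    rw [hJ] at this
    exact this
  rw [map_mul] at h0
  obtain ⟨w, hw⟩ := Ideal.mem_span_singleton.1 (he ▸ Ideal.mem_span_singleton_self η)
  have h1 : η * (k.appLE O.1 T.1 hT).hom a = 0 := by
    rw [hw, mul_right_comm, h0, zero_mul]
  have h2 := (mem_nonZeroDivisors_iff_left.1 hη) _ h1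
  have h3 : y ∈ Y'.basicOpen ((k.appLE O.1 T.1 hT).hom a) := by
    rw [Scheme.Hom.appLE, CommRingCat.comp_apply, Scheme.basicOpen_res, ← Scheme.Hom.preimage_basicOpen]
    exact ⟨hyT, hya⟩
  rw [h2, Scheme.basicOpen_zero] at h3
  exact h3

/-- An ideal sheaf is killed by the inclusion of its own subscheme. -/
theorem comap_subschemeι_eq_bot (J : X.IdealSheafData) {f : Y' ⟶ J.subscheme} :
    J.comap (f ≫ J.subschemeι) = ⊥ := by
  rw [Scheme.IdealSheafData.comap_comp]
  have : J.comap J.subschemeι ≤ ⊥ := by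
    rw [← Scheme.IdealSheafData.le_map_iff_comap_le, Scheme.IdealSheafData.map_bot,
      Scheme.IdealSheafData.ker_subschemeι]
  rw [le_bot_iff.1 this, Scheme.IdealSheafData.comap_bot]

end Groth.Agent.BlowSep
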